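import Groth.Agent.EtaLib.SpecUH
import Mathlib

/-!
The weak subintegral closure is the equalizer of the two maps to the reduced tensor square.
-/

set_option autoImplicit false
universe u
open AlgebraicGeometry
open scoped TensorProduct

namespace Groth.Agent.WeakSubint

theorem exists_equalizer_univHomeo (A B : Type u) [CommRing A] [CommRing B] [Algebra A B]
    (hinj : Function.Injective (algebraMap A B)) [Algebra.IsIntegral A B] :
    ∃ E : Subalgebra A B, (∀ b : B, b ∈ E ↔ IsNilpotent (b ⊗ₜ[A] (1 : B) - (1 : B) ⊗ₜ[A] b)) ∧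
      FlatMor.IsUnivHomeo (Spec.map (CommRingCat.ofHom (algebraMap A E))) ∧
      ∀ C : Subalgebra A B, FlatMor.IsUnivHomeo (Spec.map (CommRingCat.ofHom (algebraMap A C))) → C ≤ E := by
  let π := Ideal.Quotient.mkₐ A (nilradical (B ⊗[A] B))
  let l : B →ₐ[A] (B ⊗[A] B) ⧸ nilradical (B ⊗[A] B) := π.comp Algebra.TensorProduct.includeLeft
  let r : B →ₐ[A] (B ⊗[A] B) ⧸ nilradical (B ⊗[A] B) := π.comp Algebra.TensorProduct.includeRight
  obtain ⟨E, hE⟩ : ∃ E : Subalgebra A B, ∀ b : B, b ∈ E ↔ IsNilpotent (b ⊗ₜ[A] (1 : B) - (1 : B) ⊗ₜ[A] b) :=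
    ⟨AlgHom.equalizer l r, fun b => by
      rw [AlgHom.mem_equalizer, ← mem_nilradical, ← Ideal.Quotient.mk_eq_mk_iff_sub_mem]; rfl⟩
  have hint : (algebraMap A E).IsIntegral := fun e => (isIntegral_algHom_iff E.val Subtype.val_injective).mp
    (Algebra.IsIntegral.isIntegral (R := A) (e : B))
  have hEinj : Function.Injective (algebraMap A E) := fun a a' h => hinj (congrArg Subtype.val h)
  refine ⟨E, hE, (Groth.Agent.EtaLib.isUnivHomeo_Spec_iff _).mpr ⟨hint, ?_, ?_⟩, fun C hC c hc => ?_⟩
  · letI : Algebra.IsIntegral A E := ⟨hint⟩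
    haveI : FaithfulSMul A E := (faithfulSMul_iff_algebraMap_injective _ _).mpr hEinj
    exact Algebra.IsIntegral.comap_surjective A E
  · intro K _ g g' e
    have hval : (E.val.toRingHom : E →+* B).IsIntegral := fun b => by
      have h : (algebraMap A B).IsIntegral := algebraMap_isIntegral_iff.mpr inferInstance
      exact RingHom.IsIntegral.tower_top (algebraMap A E) E.val.toRingHom
        (by rw [show E.val.toRingHom.comp (algebraMap A E) = algebraMap A B from rfl]; exact h) b
    have hvs : Function.Surjective (PrimeSpectrum.comap (E.val.toRingHom : E →+* B)) := by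
      intro P
      letI := (E.val.toRingHom : E →+* B).toAlgebra
      letI : Algebra.IsIntegral E B := ⟨hval⟩
      obtain ⟨Q, -, hQ, hQP⟩ := Ideal.exists_ideal_over_prime_of_isIntegral P.asIdeal (⊥ : Ideal B)
        (fun x hx => by
          have h0 : (x : B) = 0 := hx
          rw [show x = 0 from Subtype.ext h0]
          exact zero_mem _)
      exact ⟨⟨Q, hQ⟩, PrimeSpectrum.ext hQP⟩
    let ι := algebraMap K (AlgebraicClosure K)
    obtain ⟨h, hh⟩ := Groth.Agent.EtaLib.exists_field_extend _ hval hvs (ι.comp g)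
    obtain ⟨h', hh'⟩ := Groth.Agent.EtaLib.exists_field_extend _ hval hvs (ι.comp g')
    refine RingHom.ext fun x => ι.injective ?_
    letI : Algebra A (AlgebraicClosure K) := (ι.comp (g.comp (algebraMap A E))).toAlgebra
    let hA1 : B →ₐ[A] AlgebraicClosure K :=
      { h with commutes' := fun a => RingHom.congr_fun hh (algebraMap A E a) }
    let hA2 : B →ₐ[A] AlgebraicClosure K :=
      { h' with commutes' := fun a => (RingHom.congr_fun hh' (algebraMap A E a)).trans (congrArg ι (RingHom.congr_fun e a).symm) }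
    have := ((hE x).mp x.2).map (Algebra.TensorProduct.productMap hA1 hA2)
    rw [map_sub, Algebra.TensorProduct.productMap_apply_tmul, Algebra.TensorProduct.productMap_apply_tmul,
      map_one, map_one, mul_one, one_mul, isNilpotent_iff_eq_zero, sub_eq_zero] at this
    exact (RingHom.congr_fun hh x).symm.trans (this.trans (RingHom.congr_fun hh' x))
  · obtain ⟨-, -, huniq⟩ := (Groth.Agent.EtaLib.isUnivHomeo_Spec_iff _).mp hC
    rw [hE]
    have h0 : IsNilpotent ((⟨c, hc⟩ : C) ⊗ₜ[A] (1 : C) - (1 : C) ⊗ₜ[A] (⟨c, hc⟩ : C)) := by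
      refine nilpotent_iff_mem_prime.mpr fun J hJ => ?_
      refine Ideal.algebraMap_residueField_eq_zero.mp ?_
      let ev : C ⊗[A] C →+* J.ResidueField := algebraMap (C ⊗[A] C) J.ResidueField
      have := huniq J.ResidueField
        (ev.comp (Algebra.TensorProduct.includeLeft : C →ₐ[A] C ⊗[A] C).toRingHom)
        (ev.comp (Algebra.TensorProduct.includeRight : C →ₐ[A] C ⊗[A] C).toRingHom)
        (RingHom.ext fun a => congrArg ev (by
          exact ((Algebra.TensorProduct.includeLeft : C →ₐ[A] C ⊗[A] C).commutes a).trans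
            ((Algebra.TensorProduct.includeRight : C →ₐ[A] C ⊗[A] C).commutes a).symm))
      show ev (_ - _) = _
      rw [map_sub, sub_eq_zero]
      exact RingHom.congr_fun this ⟨c, hc⟩
    have := h0.map (Algebra.TensorProduct.map C.val C.val)
    simpa using this

end Groth.Agent.WeakSubint
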