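import Groth.Agent.WeakSubint.Basic
import Groth.Agent.S7128
import Groth.Agent.WLoc.WContr
import Mathlib

/-!
The weak subintegral closure commutes with weakly étale base changes that preserve integral closures.
-/

set_option autoImplicit false
universe u
open AlgebraicGeometry TensorProduct

namespace Groth.Agent.WeakSubint

variable {A B : Type u} [CommRing A] [CommRing B] [Algebra A B]

theorem isUnivHomeo_of_equiv {C D : Type u} [CommRing C] [CommRing D] [Algebra A C] [Algebra A D]
    (e : C ≃ₐ[A] D) (h : FlatMor.IsUnivHomeo (Spec.map (CommRingCat.ofHom (algebraMap A C)))) :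
    FlatMor.IsUnivHomeo (Spec.map (CommRingCat.ofHom (algebraMap A D))) := by
  rw [EtaLib.isUnivHomeo_Spec_iff] at h ⊢
  obtain ⟨h1, h2, h3⟩ := h
  have he : algebraMap A D = e.toRingEquiv.toRingHom.comp (algebraMap A C) :=
    RingHom.ext fun a => (e.commutes a).symm
  refine ⟨?_, ?_, fun K _ g g' hg => ?_⟩
  · intro d
    obtain ⟨c, rfl⟩ := e.surjective d
    exact (isIntegral_algHom_iff e.toAlgHom e.injective).2 (h1 c)
  · rw [he, PrimeSpectrum.comap_comp]
    exact h2.comp (PrimeSpectrum.comapEquiv e.toRingEquiv).symm.surjective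
  · have := h3 K (g.comp e.toRingEquiv.toRingHom) (g'.comp e.toRingEquiv.toRingHom)
      (by rw [RingHom.comp_assoc, RingHom.comp_assoc, ← he, hg])
    refine RingHom.ext fun d => ?_
    obtain ⟨c, rfl⟩ := e.surjective d
    exact RingHom.congr_fun this c

theorem le_integralClosure (C : Subalgebra A B)
    (hC : FlatMor.IsUnivHomeo (Spec.map (CommRingCat.ofHom (algebraMap A C)))) : C ≤ integralClosure A B :=
  fun c hc => by
    have h : IsIntegral A (⟨c, hc⟩ : C) := (EtaLib.isUnivHomeo_Spec_iff _).1 hC |>.1 _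
    exact h.map C.val

/-- The largest universally homeomorphic subalgebra, computed inside an integral extension mapping
injectively onto the integral closure. -/
theorem eq_map_equalizer {B₀ : Type u} [CommRing B₀] [Algebra A B₀] (ι : B₀ →ₐ[A] B)
    (hι : Function.Injective ι) (hrange : integralClosure A B ≤ ι.range)
    (E : Subalgebra A B₀) (hE : FlatMor.IsUnivHomeo (Spec.map (CommRingCat.ofHom (algebraMap A E))))
    (hEmax : ∀ D : Subalgebra A B₀, FlatMor.IsUnivHomeo (Spec.map (CommRingCat.ofHom (algebraMap A D))) → D ≤ E)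
    (C : Subalgebra A B) (hC : FlatMor.IsUnivHomeo (Spec.map (CommRingCat.ofHom (algebraMap A C))))
    (hmax : ∀ D : Subalgebra A B, FlatMor.IsUnivHomeo (Spec.map (CommRingCat.ofHom (algebraMap A D))) → D ≤ C) :
    (C : Set B) = ι '' E := by
  have h1 : E.map ι ≤ C := hmax _ (isUnivHomeo_of_equiv (E.equivMapOfInjective ι hι) hE)
  have hCr : C ≤ ι.range := (le_integralClosure C hC).trans hrange
  have h3 : (C.comap ι).map ι = C := by
    refine SetLike.coe_injective ?_
    rw [Subalgebra.coe_map, Subalgebra.coe_comap, Set.image_preimage_eq_of_subset]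
    exact fun c hc => hCr hc
  have h2 : C.comap ι ≤ E := hEmax _ (isUnivHomeo_of_equiv
    ((Subalgebra.equivOfEq _ _ h3.symm).trans ((C.comap ι).equivMapOfInjective ι hι).symm) hC)
  refine Set.Subset.antisymm (fun c hc => ?_) (fun c hc => h1 hc)
  rw [← h3] at hc
  obtain ⟨b, hb, rfl⟩ := hc
  exact ⟨b, h2 hb, rfl⟩

variable {A' : Type u} [CommRing A'] [Algebra A A'] [Algebra.WeaklyEtale A A'] [Algebra.IsIntegral A B]

/-- The equalizer defining the weak subintegral closure commutes with weakly étale base change. -/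
theorem equalizer_baseChange (E : Subalgebra A B)
    (hE : ∀ b : B, b ∈ E ↔ IsNilpotent (b ⊗ₜ[A] (1 : B) - (1 : B) ⊗ₜ[A] b))
    (E' : Subalgebra A' (A' ⊗[A] B))
    (hE' : ∀ x : A' ⊗[A] B,
      x ∈ E' ↔ IsNilpotent (x ⊗ₜ[A'] (1 : A' ⊗[A] B) - (1 : A' ⊗[A] B) ⊗ₜ[A'] x)) :
    (E' : Set (A' ⊗[A] B)) = Set.range (Algebra.TensorProduct.map (AlgHom.id A A') E.val) := by
  let N := nilradical (B ⊗[A] B)
  let R := (B ⊗[A] B) ⧸ N
  let π : B ⊗[A] B →ₐ[A] R := Ideal.Quotient.mkₐ A N
  let L : B →ₐ[A] B ⊗[A] B := Algebra.TensorProduct.includeLeft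
  let Rr : B →ₐ[A] B ⊗[A] B := Algebra.TensorProduct.includeRight
  let δ : B →ₗ[A] R := (π.comp L).toLinearMap - (π.comp Rr).toLinearMap
  have hmem : ∀ b, b ∈ E ↔ δ b = 0 := fun b => by
    rw [hE, ← mem_nilradical]
    exact Ideal.Quotient.eq_zero_iff_mem.symm
  have hex : Function.Exact E.val.toLinearMap δ := fun b =>
    ⟨fun h => ⟨⟨b, (hmem b).2 h⟩, rfl⟩, by rintro ⟨e, rfl⟩; exact (hmem _).1 e.2⟩
  have hex' := Module.Flat.lTensor_exact A' hex
  haveI : IsReduced R := Ideal.isRadical_iff_quotient_reduced _ |>.1 (Ideal.radical_isRadical _)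
  letI : Algebra R (A' ⊗[A] R) := Algebra.TensorProduct.rightAlgebra
  haveI : IsReduced (A' ⊗[A] R) := by
    haveI : IsReduced (R ⊗[A] A') := S7128.result R (R ⊗[A] A')
    exact isReduced_of_injective (Algebra.TensorProduct.comm A A' R) (Algebra.TensorProduct.comm A A' R).injective
  let π' := Algebra.TensorProduct.map (AlgHom.id A' A') π
  have hπ' : ∀ z, π' z = 0 → IsNilpotent z := by
    intro z hz
    have hsurj : Function.Surjective π := Ideal.Quotient.mkₐ_surjective A N
    have hN : Function.Exact (N.subtype.restrictScalars A) π.toLinearMap := fun b =>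
      ⟨fun h => ⟨⟨b, Ideal.Quotient.eq_zero_iff_mem.1 h⟩, rfl⟩,
        by rintro ⟨e, rfl⟩; exact Ideal.Quotient.eq_zero_iff_mem.2 e.2⟩
    obtain ⟨w, rfl⟩ := (lTensor_exact A' hN hsurj z).1 hz
    clear hz
    induction w using TensorProduct.induction_on with
    | zero => simp
    | add x y hx hy => rw [map_add]; exact (Commute.all _ _).isNilpotent_add hx hy
    | tmul a e =>
      obtain ⟨k, hk⟩ := e.2
      refine ⟨k, ?_⟩
      rw [LinearMap.lTensor_tmul, Algebra.TensorProduct.tmul_pow, LinearMap.restrictScalars_apply,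
        Submodule.subtype_apply, hk, TensorProduct.tmul_zero]
  let B' := A' ⊗[A] B
  let iL := Algebra.TensorProduct.map (AlgHom.id A' A') L
  let iR := Algebra.TensorProduct.map (AlgHom.id A' A') Rr
  let Φ : B' ⊗[A'] B' →ₐ[A'] A' ⊗[A] (B ⊗[A] B) :=
    Algebra.TensorProduct.lift iL iR fun _ _ => Commute.all _ _
  let g₁ : B →ₐ[A] B' ⊗[A'] B' :=
    ((Algebra.TensorProduct.includeLeft : B' →ₐ[A'] B' ⊗[A'] B').restrictScalars A).comp
      Algebra.TensorProduct.includeRight
  let g₂ : B →ₐ[A] B' ⊗[A'] B' :=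
    ((Algebra.TensorProduct.includeRight : B' →ₐ[A'] B' ⊗[A'] B').restrictScalars A).comp
      Algebra.TensorProduct.includeRight
  let Ψ : A' ⊗[A] (B ⊗[A] B) →ₐ[A'] B' ⊗[A'] B' :=
    Algebra.TensorProduct.lift (Algebra.ofId A' _) (Algebra.TensorProduct.productMap g₁ g₂)
      fun _ _ => Commute.all _ _
  have hL : Ψ.comp iL = Algebra.TensorProduct.includeLeft := by
    refine Algebra.TensorProduct.ext (by ext) (AlgHom.ext fun b => ?_)
    simp [Ψ, iL, L, g₁, g₂, Algebra.TensorProduct.one_def, B']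
  have hR : Ψ.comp iR = Algebra.TensorProduct.includeRight := by
    refine Algebra.TensorProduct.ext (by ext) (AlgHom.ext fun b => ?_)
    simp [Ψ, iR, Rr, g₁, g₂, Algebra.TensorProduct.one_def, B']
  have key : ∀ x : B', IsNilpotent (x ⊗ₜ[A'] (1 : B') - (1 : B') ⊗ₜ[A'] x) ↔ δ.lTensor A' x = 0 := by
    intro x
    have hz : π' (iL x - iR x) = δ.lTensor A' x := by
      rw [show δ.lTensor A' x = (π.comp L).toLinearMap.lTensor A' x - (π.comp Rr).toLinearMap.lTensor A' x by
        rw [LinearMap.lTensor_sub]; rfl, map_sub]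
      induction x using TensorProduct.induction_on with
      | zero => simp
      | add a b ha hb =>
        simp only [map_add] at *
        rw [add_sub_add_comm, ha, hb, add_sub_add_comm]
      | tmul a b => rfl
    constructor
    · intro h
      have h1 := h.map Φ
      rw [map_sub, Algebra.TensorProduct.lift_tmul, Algebra.TensorProduct.lift_tmul, map_one, map_one,
        mul_one, one_mul] at h1
      rw [← hz]
      exact (h1.map π').eq_zero
    · intro h
      have h1 := (hπ' _ (hz.trans h)).map Ψ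
      rw [map_sub, ← AlgHom.comp_apply, ← AlgHom.comp_apply, hL, hR] at h1
      exact h1
  ext x
  rw [SetLike.mem_coe, hE', key, hex' x]
  exact Iff.rfl

end Groth.Agent.WeakSubint
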